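import Groth.Prelude.Def_CycCov
import Groth.Agent.AmpleThLib.Pow
import Groth.Agent.EtShLib.Kummer
import Groth.Agent.CohenLib.RegularField
import Groth.Agent.NormalLib.Regular
import Groth.Agent.TwistLib.PullGen
import Mathlib

/-!
# The normalised cyclic cover is etale off the branch divisor
-/

set_option autoImplicit false
set_option backward.isDefEq.respectTransparency false
set_option linter.style.haveILetI false

universe u

open CategoryTheory CategoryTheory.Limits AlgebraicGeometry TopologicalSpace Opposite Polynomial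

noncomputable section

namespace CycEtaleLib

/-- Surjectivity onto a finite extension agreeing with a normal ring after inverting one element. -/
theorem bijective_of_localization {C B' C' B'' : Type u} [CommRing C] [CommRing B'] [CommRing C'] [CommRing B'']
    (ψ : C →+* B') (ψ' : C' →+* B'') (ρ : C →+* C') (σ : B' →+* B'') (hcomm : ∀ c, σ (ψ c) = ψ' (ρ c))
    (g : C) (hψ' : Function.Bijective ψ') (hρ : Function.Injective ρ)
    (hsurj : ∀ c' : C', ∃ (n : ℕ) (c : C), ρ c = ρ g ^ n * c')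
    (hgreg : ∀ b : B', ψ g * b = 0 → b = 0) (hσ : ∀ b : B', σ b = 0 → b = 0) (hint : ψ.IsIntegral)
    (hloc : ∀ (P : Ideal C) [P.IsMaximal],
      IsDomain (Localization.AtPrime P) ∧ IsIntegrallyClosed (Localization.AtPrime P)) :
    Function.Bijective ψ := by
  classical
  have hinj : Function.Injective ψ := fun a b hab => hρ (hψ'.1 (by rw [← hcomm, ← hcomm, hab]))
  have hgpow : ∀ (n : ℕ) (b : B'), ψ g ^ n * b = 0 → b = 0 := fun n => by
    induction n with
    | zero => intro b hb; simpa using hb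
    | succ n ih => intro b hb; exact hgreg _ (ih _ (by rw [← mul_assoc, ← pow_succ]; exact hb))
  refine ⟨hinj, fun b => ?_⟩
  obtain ⟨c', hc'⟩ := hψ'.2 (σ b)
  obtain ⟨n, c, hc⟩ := hsurj c'
  have hb : ψ c = ψ g ^ n * b := by
    rw [← sub_eq_zero]
    refine hσ _ ?_
    rw [map_sub, hcomm, hc, map_mul, map_mul, map_pow, map_pow, ← hcomm, hc', sub_self]
  let J : Ideal C :=
    { carrier := {x | ∃ d, ψ d = ψ x * b}
      add_mem' := by rintro x y ⟨d, hd⟩ ⟨e, he⟩; exact ⟨d + e, by rw [map_add, map_add, hd, he, add_mul]⟩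
      zero_mem' := ⟨0, by simp⟩
      smul_mem' := by rintro r x ⟨d, hd⟩; exact ⟨r * d, by rw [smul_eq_mul, map_mul, map_mul, hd, mul_assoc]⟩ }
  suffices hJ : J = ⊤ by
    obtain ⟨d, hd⟩ := (hJ ▸ Submodule.mem_top : (1 : C) ∈ J)
    exact ⟨d, by rw [hd, map_one, one_mul]⟩
  by_contra hne
  obtain ⟨P, hP, hJP⟩ := Ideal.exists_le_maximal J hne
  obtain ⟨hdom, hicl⟩ := hloc P
  let R := Localization.AtPrime P
  let γ := algebraMap C R
  obtain ⟨p, hpm, hp⟩ := hint b
  let G : C := g ^ n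
  have hq : eval₂ ψ (ψ c) (p.scaleRoots G) = 0 := by
    rw [hb, ← map_pow]
    exact Polynomial.scaleRoots_eval₂_eq_zero ψ hp
  have hq0 : (p.scaleRoots G).eval c = 0 := hinj (by rw [← Polynomial.eval₂_at_apply, hq, map_zero])
  have key : ∃ e : R, γ c = γ G * e := by
    by_cases hG : γ G = 0
    · -- the element is then nilpotent at `P`
      refine ⟨0, ?_⟩
      obtain ⟨⟨t, ht⟩, htG⟩ := (IsLocalization.map_eq_zero_iff P.primeCompl R G).mp hG
      exact absurd (hJP (show t ∈ J from ⟨0, by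
        rw [map_zero]
        refine (hgpow n _ ?_).symm
        rw [← mul_assoc, ← map_pow, ← map_mul, mul_comm _ t, show t * g ^ n = 0 from htG, map_zero, zero_mul]⟩)) ht
    · let K := FractionRing R
      have hGK : algebraMap R K (γ G) ≠ 0 := (map_ne_zero_iff _ (IsFractionRing.injective R K)).mpr hG
      let z : K := algebraMap R K (γ c) / algebraMap R K (γ G)
      have hz : IsIntegral R z := by
        refine ⟨p.map γ, hpm.map γ, ?_⟩
        rw [eval₂_map]
        let τ := (algebraMap R K).comp γ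
        have h1 : eval₂ τ (τ c) (p.scaleRoots G) = 0 := by rw [Polynomial.eval₂_at_apply, hq0, map_zero]
        have h2 := Polynomial.scaleRoots_eval₂_mul (p := p) τ z G
        rw [show τ G * z = τ c from mul_div_cancel₀ _ hGK, h1] at h2
        exact (mul_eq_zero.mp h2.symm).resolve_left (pow_ne_zero _ hGK)
      obtain ⟨e, he⟩ := IsIntegrallyClosed.isIntegral_iff.mp hz
      refine ⟨e, IsFractionRing.injective R K ?_⟩
      rw [map_mul, he]
      exact (mul_div_cancel₀ _ hGK).symm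
  obtain ⟨e, he⟩ := key
  obtain ⟨d, ⟨t, ht⟩, rfl⟩ := IsLocalization.exists_mk'_eq P.primeCompl e
  have he' : γ (c * t) = γ (G * d) := by
    rw [map_mul, map_mul, he, mul_assoc]
    congr 1
    exact IsLocalization.mk'_spec _ _ _
  obtain ⟨⟨t', ht'⟩, htt'⟩ := (IsLocalization.eq_iff_exists P.primeCompl R).mp he'
  have hmem : t' * t ∈ J := by
    refine ⟨t' * d, ?_⟩
    rw [← sub_eq_zero]
    refine hgpow n _ ?_
    rw [mul_sub, ← mul_assoc, mul_comm (ψ g ^ n) (ψ (t' * t)), mul_assoc, ← hb, ← map_pow, ← map_mul, ← map_mul,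
      ← map_sub]
    have : g ^ n * (t' * d) - t' * t * c = 0 := by
      have h : t' * (c * t) = t' * (G * d) := htt'
      linear_combination (-1 : C) * h
    rw [this, map_zero]
  exact (P.primeCompl.mul_mem ht' ht) (hJP hmem)

variable {X Y : Scheme.{u}}

theorem isGen_of_genOn {L : X.Modules} {U : X.Opens} {e : Γ(L, U)} (he : AmpleLib.GenOn L e) :
    CycCov.IsGen L U e := by
  have h := he U le_rfl
  have hr : AmpleLib.res L (le_refl U) e = e := ConcreteCategory.congr_hom (L.presheaf.map_id (op U)) e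
  rw [hr] at h
  exact h

theorem lpow_eq_pS {L : X.Modules} {U : X.Opens} (e : Γ(L, U)) :
    ∀ n, CycCov.lpow L U e n = AmpleThLib.pS e n
  | 0 => rfl
  | n + 1 => by
    change SecTwist.tmul (CohB1.tensorPow L n) L U (CycCov.lpow L U e n) e = _
    rw [lpow_eq_pS e n]
    rfl

theorem etale_restrict {k : Type u} [Field k] (f : X ⟶ Spec (CommRingCat.of k)) [Smooth f] [IsIntegral X]
    (L : X.Modules) (hL : PicF.IsInvertible L) (N : ℕ) (hN : 0 < N) (hNk : (N : k) ≠ 0)
    {r : ℕ} (D : Fin r → X.IdealSheafData) (α : Fin r → ℕ)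
    (s : Coh.structureModule X ⟶ CohB1.tensorPow L N) (hs : CycCov.IsZeroDiv (CohB1.tensorPow L N) s (CycCov.divIdeal D α))
    (π : Y ⟶ X) (R : CycCov.Root L N s π) (hR : CycCov.IsCover R)
    (W : X.Opens) (hW : ∀ j : Fin r, 0 < α j → Disjoint (W : Set X) ((D j).support : Set X)) :
    Etale (π ∣_ W) := by
  obtain ⟨hfin, hYn, W₀, hW₀, hW₀Y, hchart⟩ := hR
  haveI : IsFinite π := hfin
  haveI : AlgebraicGeometry.IsReduced Y := by
    haveI : ∀ y : Y, _root_.IsReduced (Y.presheaf.stalk y) := fun y => by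
      haveI := (hYn y).1
      infer_instance
    exact isReduced_of_isReduced_stalk Y
  suffices key : ∀ x ∈ W, ∃ U : X.Opens, x ∈ U ∧ U ≤ W ∧ Etale (π ∣_ U) by
    refine IsZariskiLocalAtTarget.of_forall_exists_morphismRestrict (P := @Etale) fun x => ?_
    obtain ⟨U, hxU, hUW, hU⟩ := key x.1 x.2
    refine ⟨W.ι ⁻¹ᵁ U, hxU, ?_⟩
    rw [MorphismProperty.arrow_mk_iso_iff @Etale (morphismRestrictRestrict π W (W.ι ⁻¹ᵁ U))]
    have : W.ι ''ᵁ W.ι ⁻¹ᵁ U = U := by
      rw [Scheme.Hom.image_preimage_eq_opensRange_inf, Scheme.Opens.opensRange_ι, inf_eq_right.mpr hUW]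
    rw [this]
    exact hU
  intro x hxW
  obtain ⟨T, e₀, hxT, he₀⟩ := TwistLib.exists_genOn hL x
  obtain ⟨U, hU, hxU, hUle⟩ := exists_isAffineOpen_mem_and_subset (U := W ⊓ T) (x := x) ⟨hxW, hxT⟩
  have hUW : U ≤ W := le_trans hUle inf_le_left
  haveI : Nonempty U := ⟨⟨x, hxU⟩⟩
  let e : Γ(L, U) := AmpleLib.res L (le_trans hUle inf_le_right) e₀
  have hge : AmpleLib.GenOn L e := he₀.res _
  have hGen : CycCov.IsGen L U e := isGen_of_genOn hge
  have hGenN : Function.Bijective fun b : Γ(X, U) => b • (show (CohB1.tensorPow L N).val.obj (op U) from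
      CycCov.lpow L U e N) := by
    rw [lpow_eq_pS]
    exact isGen_of_genOn (AmpleThLib.pS_genOn hge N)
  obtain ⟨c, hc⟩ := hGenN.2 (SecTwist.val s U)
  have htop : (CycCov.divIdeal D α).ideal ⟨U, hU⟩ = ⊤ := by
    have hj : ∀ j, ((D j) ^ α j).ideal ⟨U, hU⟩ = 1 := fun j => by
      rw [Scheme.IdealSheafData.ideal_pow, Pi.pow_apply]
      rcases Nat.eq_zero_or_pos (α j) with h0 | h0
      · rw [h0, pow_zero]
      · have : (D j).ideal ⟨U, hU⟩ = 1 := by
          rw [Ideal.one_eq_top]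
          by_contra hne
          obtain ⟨P, hP, hle⟩ := Ideal.exists_le_maximal _ hne
          let q : PrimeSpectrum Γ(X, U) := ⟨P, hP.isPrime⟩
          have hq : hU.fromSpec q ∈ U := by
            show hU.fromSpec q ∈ (U : Set X)
            rw [← hU.range_fromSpec]; exact ⟨q, rfl⟩
          refine Set.disjoint_left.mp (hW j h0) (hUW hq) ?_
          have h2 : hU.fromSpec q ∈ hU.fromSpec '' PrimeSpectrum.zeroLocus (R := Γ(X, U)) ((D j).ideal ⟨U, hU⟩) :=
            ⟨q, hle, rfl⟩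
          rw [hU.fromSpec_image_zeroLocus] at h2
          exact ((Scheme.IdealSheafData.coe_support_inter (D j) ⟨U, hU⟩).ge h2).1
        rw [this, one_pow]
    have hp : ∀ S : Finset (Fin r), (∏ j ∈ S, D j ^ α j).ideal ⟨U, hU⟩ = 1 := fun S => by
      classical
      induction S using Finset.induction_on with
      | empty => rw [Finset.prod_empty, Ideal.one_eq_top]; rfl
      | insert a S ha ih =>
        rw [Finset.prod_insert ha, Scheme.IdealSheafData.ideal_mul, Pi.mul_apply, hj, ih, one_mul]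
    rw [CycCov.divIdeal, hp, Ideal.one_eq_top]
  have hcu : IsUnit c := by
    have h := hs ⟨U, hU⟩
    rw [htop, Submodule.top_smul] at h
    obtain ⟨a, ha⟩ := Submodule.mem_span_singleton.mp (h ▸ Submodule.mem_top :
      (show (CohB1.tensorPow L N).val.obj (op U) from CycCov.lpow L U e N) ∈
        Submodule.span Γ(X, U) {SecTwist.val s U})
    refine IsUnit.of_mul_eq_one a (hGenN.1 ?_)
    show (c * a) • (show (CohB1.tensorPow L N).val.obj (op U) from CycCov.lpow L U e N) =
      (1 : Γ(X, U)) • (show (CohB1.tensorPow L N).val.obj (op U) from CycCov.lpow L U e N)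
    rw [mul_comm, mul_smul, one_smul]
    exact (congrArg (a • ·) hc).trans ha
  let ψ := CycCov.chart R ⟨U, hU⟩ e hGen c hc.symm
  let p : Γ(X, U)[X] := Polynomial.X ^ N - Polynomial.C c
  have hpm : p.Monic := monic_X_pow_sub_C c hN.ne'
  have hNu : IsUnit (N : Γ(X, U)) := by
    have h := (IsUnit.mk0 (N : k) hNk).map
      (((Scheme.ΓSpecIso (CommRingCat.of k)).inv ≫ f.appLE ⊤ U le_top).hom)
    rwa [map_natCast] at h
  have hpsep : p.Separable := by
    obtain ⟨cu, rfl⟩ := hcu
    exact separable_X_pow_sub_C_unit cu hNu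
  haveI : Algebra.Etale Γ(X, U) (AdjoinRoot p) := Groth.Agent.EtShLib.etale_adjoinRoot_separable hpm hpsep
  let alg : Algebra k Γ(X, U) := (((Scheme.ΓSpecIso (CommRingCat.of k)).inv ≫ f.appLE ⊤ U le_top).hom).toAlgebra
  haveI : Algebra.Smooth k Γ(X, U) := by
    rw [← RingHom.smooth_algebraMap]
    have h := HasRingHomProperty.appLE @Smooth f inferInstance ⟨⊤, isAffineOpen_top _⟩ ⟨U, hU⟩ le_top
    exact RingHom.Smooth.comp (RingHom.Smooth.of_bijective
      (ConcreteCategory.bijective_of_isIso (Scheme.ΓSpecIso (CommRingCat.of k)).inv)) h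
  haveI : Algebra.Smooth Γ(X, U) (AdjoinRoot p) := inferInstance
  haveI : Algebra.Smooth k (AdjoinRoot p) := Algebra.Smooth.comp k Γ(X, U) (AdjoinRoot p)
  haveI : IsRegularRing (AdjoinRoot p) := CohenLib.isRegularRing_of_smooth k (AdjoinRoot p)
  obtain ⟨x', hx'⟩ : ((W₀ : Set X) ∩ U).Nonempty := by
    obtain ⟨z, hz, hz'⟩ := hW₀.inter_open_nonempty (U : Set X) U.isOpen ⟨x, hxU⟩
    exact ⟨z, hz', hz⟩
  obtain ⟨g, hgle, hxg⟩ := hU.exists_basicOpen_le (⟨x', hx'.1⟩ : W₀) hx'.2
  haveI : Nonempty (X.basicOpen g) := ⟨⟨x', hxg⟩⟩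
  let res : Γ(X, U) →+* Γ(X, X.basicOpen g) := (X.presheaf.map (homOfLE (X.basicOpen_le g)).op).hom
  have hres : Function.Injective res := map_injective_of_isIntegral X (homOfLE (X.basicOpen_le g))
  have hg0 : g ≠ 0 := fun h => by
    rw [h, Scheme.basicOpen_zero] at hxg
    exact hxg
  let e' : L.val.obj (op (X.basicOpen g)) := L.val.map (homOfLE (X.basicOpen_le g)).op e
  have hGen' : CycCov.IsGen L (X.basicOpen g) e' := isGen_of_genOn (hge.res (X.basicOpen_le g))
  have hc' : SecTwist.val s (X.basicOpen g) = res c • CycCov.lpow L (X.basicOpen g) e' N := by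
    have h := congrArg (AmpleLib.res (CohB1.tensorPow L N) (X.basicOpen_le g)) hc
    rw [show SecTwist.val s (X.basicOpen g) = AmpleLib.res (CohB1.tensorPow L N) (X.basicOpen_le g)
      (SecTwist.val s U) from (SecTwist.map_val s (homOfLE (X.basicOpen_le g))).symm, ← h]
    rw [lpow_eq_pS, lpow_eq_pS]
    erw [AmpleLib.res_smul]
    congr 1
    exact AmpleThLib.pS_res _ _ _
  let p' : Γ(X, X.basicOpen g)[X] := Polynomial.X ^ N - Polynomial.C (res c)
  have hpp' : p.map res = p' := by simp [p, p']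
  have hpm' : p'.Monic := monic_X_pow_sub_C _ hN.ne'
  let ρ : AdjoinRoot p →+* AdjoinRoot p' := AdjoinRoot.lift ((AdjoinRoot.of p').comp res) (AdjoinRoot.root p') (by
    rw [← Polynomial.eval₂_map, hpp']
    exact AdjoinRoot.eval₂_root p')
  have hρmk : ∀ h : Γ(X, U)[X], ρ (AdjoinRoot.mk p h) = AdjoinRoot.mk p' (h.map res) := fun h => by
    rw [AdjoinRoot.lift_mk, ← Polynomial.eval₂_map, ← AdjoinRoot.aeval_eq, aeval_def, AdjoinRoot.algebraMap_eq]
  have hρ : Function.Injective ρ := (injective_iff_map_eq_zero ρ).mpr fun z hz => by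
    obtain ⟨h, rfl⟩ := AdjoinRoot.mk_surjective z
    rw [hρmk, AdjoinRoot.mk_eq_zero, ← hpp'] at hz
    rw [AdjoinRoot.mk_eq_zero]
    exact (Polynomial.map_dvd_map res hres hpm).mp hz
  let ψ' := CycCov.chart R ⟨X.basicOpen g, hU.basicOpen g⟩ e' hGen' (res c) hc'
  let σ : Γ(Y, π ⁻¹ᵁ U) →+* Γ(Y, π ⁻¹ᵁ X.basicOpen g) :=
    (Y.presheaf.map (homOfLE (π.preimage_mono (X.basicOpen_le g))).op).hom
  have hσ0 : ∀ a : Γ(X, U), σ (π.app U a) = π.app (X.basicOpen g) (res a) := fun a =>
    (ConcreteCategory.congr_hom (π.naturality (homOfLE (X.basicOpen_le g)).op) a).symm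
  have hcomm : ∀ z, σ (ψ z) = ψ' (ρ z) := by
    intro z
    have hh : σ.comp ψ = ψ'.comp ρ := by
      refine AdjoinRoot.ringHom_ext (RingHom.ext fun a => ?_) ?_
      · have h1 : ψ (AdjoinRoot.of p a) = π.app U a := AdjoinRoot.lift_of _
        have h2 : ρ (AdjoinRoot.of p a) = AdjoinRoot.of p' (res a) := AdjoinRoot.lift_of _
        have h3 : ψ' (AdjoinRoot.of p' (res a)) = π.app (X.basicOpen g) (res a) := AdjoinRoot.lift_of _
        show σ (ψ (AdjoinRoot.of p a)) = ψ' (ρ (AdjoinRoot.of p a))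
        rw [h1, h2, h3]
        exact hσ0 a
      · have h1 : ψ (AdjoinRoot.root p) = R.t ⟨U, hU⟩ e hGen := AdjoinRoot.lift_root _
        have h2 : ρ (AdjoinRoot.root p) = AdjoinRoot.root p' := AdjoinRoot.lift_root _
        have h3 : ψ' (AdjoinRoot.root p') = R.t ⟨X.basicOpen g, hU.basicOpen g⟩ e' hGen' := AdjoinRoot.lift_root _
        show σ (ψ (AdjoinRoot.root p)) = ψ' (ρ (AdjoinRoot.root p))
        rw [h1, h2, h3]
        exact R.t_res ⟨U, hU⟩ ⟨X.basicOpen g, hU.basicOpen g⟩ (X.basicOpen_le g) e hGen hGen'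
    exact congrArg (fun φ => φ z) hh
  have hψof : ∀ a : Γ(X, U), ψ (AdjoinRoot.of p a) = π.app U a := fun a => by
    simp only [ψ, CycCov.chart]
    exact AdjoinRoot.lift_of _
  haveI hUloc := hU.isLocalization_basicOpen g
  have hsurj : ∀ z : AdjoinRoot p', ∃ (n : ℕ) (a : AdjoinRoot p), ρ a = ρ (AdjoinRoot.of p g) ^ n * z := by
    intro z
    obtain ⟨h, rfl⟩ := AdjoinRoot.mk_surjective z
    have hρg : ρ (AdjoinRoot.of p g) = AdjoinRoot.of p' (res g) := AdjoinRoot.lift_of _
    induction h using Polynomial.induction_on' with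
    | add h₁ h₂ ih₁ ih₂ =>
      obtain ⟨n₁, a₁, ha₁⟩ := ih₁
      obtain ⟨n₂, a₂, ha₂⟩ := ih₂
      refine ⟨n₁ + n₂, AdjoinRoot.of p g ^ n₂ * a₁ + AdjoinRoot.of p g ^ n₁ * a₂, ?_⟩
      rw [map_add ρ, map_mul, map_mul, ha₁, ha₂, map_pow, map_pow, map_add (AdjoinRoot.mk p'), pow_add]
      ring
    | monomial i a =>
      obtain ⟨⟨b, ⟨_, n, rfl⟩⟩, hb⟩ := IsLocalization.surj (Submonoid.powers g) a
      refine ⟨n, AdjoinRoot.mk p (monomial i b), ?_⟩
      rw [hρmk, Polynomial.map_monomial, hρg, ← map_pow, ← AdjoinRoot.mk_C, ← map_mul, C_mul_monomial]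
      congr 2
      rw [mul_comm, ← map_pow]
      exact hb.symm
  have hbad : ∀ b : Γ(Y, π ⁻¹ᵁ U), π.app U g * b = 0 → b = 0 := by
    intro b hb
    have hzero : ∀ (V : X.Opens), IsAffineOpen V → V ≤ U → V ≤ W₀ → ∀ hle : π ⁻¹ᵁ V ≤ π ⁻¹ᵁ U,
        Y.presheaf.map (homOfLE hle).op b = 0 := by
      intro V hV hVU hVW₀ hle
      rcases isEmpty_or_nonempty V with hempty | hne
      · haveI : Subsingleton Γ(Y, π ⁻¹ᵁ V) := by
          have : π ⁻¹ᵁ V = ⊥ := by
            refine le_bot_iff.mp fun y hy => ?_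
            exact (hempty.false ⟨π y, hy⟩).elim
          rw [this]
          infer_instance
        exact Subsingleton.elim _ _
      let eV : L.val.obj (op V) := L.val.map (homOfLE hVU).op e
      have hGV : CycCov.IsGen L V eV := isGen_of_genOn (hge.res hVU)
      let cV : Γ(X, V) := X.presheaf.map (homOfLE hVU).op c
      have hcV : SecTwist.val s V = cV • CycCov.lpow L V eV N := by
        have h := congrArg (AmpleLib.res (CohB1.tensorPow L N) hVU) hc
        rw [show SecTwist.val s V = AmpleLib.res (CohB1.tensorPow L N) hVU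
          (SecTwist.val s U) from (SecTwist.map_val s (homOfLE hVU)).symm, ← h]
        rw [lpow_eq_pS, lpow_eq_pS]
        erw [AmpleLib.res_smul]
        congr 1
        exact AmpleThLib.pS_res _ _ _
      have hbij := hchart ⟨V, hV⟩ hVW₀ eV hGV cV hcV
      obtain ⟨z, hz⟩ := hbij.2 (Y.presheaf.map (homOfLE hle).op b)
      have h1 := congrArg (Y.presheaf.map (homOfLE hle).op) hb
      rw [map_mul, map_zero, show Y.presheaf.map (homOfLE hle).op (π.app U g) =
        π.app V (X.presheaf.map (homOfLE hVU).op g) from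
          (ConcreteCategory.congr_hom (π.naturality (homOfLE hVU).op) g).symm, ← hz] at h1
      let gV : Γ(X, V) := X.presheaf.map (homOfLE hVU).op g
      have h2 : algebraMap Γ(X, V) (AdjoinRoot (Polynomial.X ^ N - Polynomial.C cV)) gV * z = 0 := hbij.1 (by
        rw [map_mul, map_zero, AdjoinRoot.algebraMap_eq]
        simp only [CycCov.chart, AdjoinRoot.lift_of]
        exact h1)
      haveI : Module.Free Γ(X, V) (AdjoinRoot (Polynomial.X ^ N - Polynomial.C cV)) :=
        (monic_X_pow_sub_C cV hN.ne').free_adjoinRoot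
      have hgV : gV ≠ 0 := fun h0 => hg0 (map_injective_of_isIntegral X (homOfLE hVU) (h0.trans (map_zero _).symm))
      rw [← Algebra.smul_def] at h2
      rcases smul_eq_zero.mp h2 with h0 | h0
      · exact absurd h0 hgV
      · rw [← hz, h0, map_zero]
    refine (basicOpen_eq_bot_iff b).mp (le_bot_iff.mp fun y hy => ?_)
    exfalso
    obtain ⟨y', hy', hy'W⟩ := hW₀Y.inter_open_nonempty (Y.basicOpen b : Set Y) (Y.basicOpen b).isOpen ⟨y, hy⟩
    obtain ⟨V, hV, hyV, hVle⟩ := exists_isAffineOpen_mem_and_subset (U := U ⊓ W₀) (x := π y')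
      ⟨Y.basicOpen_le b hy', hy'W⟩
    have hle : π ⁻¹ᵁ V ≤ π ⁻¹ᵁ U := π.preimage_mono (le_trans hVle inf_le_left)
    have h0 := hzero V hV (le_trans hVle inf_le_left) (le_trans hVle inf_le_right) hle
    have hmem : y' ∈ Y.basicOpen (Y.presheaf.map (homOfLE hle).op b) := by
      erw [Scheme.basicOpen_res]
      exact ⟨hyV, hy'⟩
    rw [h0, Scheme.basicOpen_zero] at hmem
    exact hmem
  have hσ : ∀ b : Γ(Y, π ⁻¹ᵁ U), σ b = 0 → b = 0 := by
    intro b hb
    have hpU : IsAffineOpen (π ⁻¹ᵁ U) := hU.preimage π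
    have hD : Y.basicOpen (π.app U g) = π ⁻¹ᵁ X.basicOpen g := (Scheme.preimage_basicOpen π g).symm
    haveI := hpU.isLocalization_basicOpen (π.app U g)
    have h0 : algebraMap Γ(Y, π ⁻¹ᵁ U) Γ(Y, Y.basicOpen (π.app U g)) b = 0 := by
      have h1 := congrArg (Y.presheaf.map (eqToHom hD).op) hb
      rw [map_zero] at h1
      refine Eq.trans ?_ h1
      show _ = (Y.presheaf.map _ ≫ Y.presheaf.map _) b
      rw [← Functor.map_comp]
      rfl
    obtain ⟨⟨_, n, rfl⟩, hn⟩ := (IsLocalization.map_eq_zero_iff (Submonoid.powers (π.app U g)) _ b).mp h0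
    have hpow : ∀ (m : ℕ) (b : Γ(Y, π ⁻¹ᵁ U)), (π.app U g) ^ m * b = 0 → b = 0 := fun m => by
      induction m with
      | zero => intro b hb; simpa using hb
      | succ m ih => intro b hb; exact hbad _ (ih _ (by rw [← mul_assoc, ← pow_succ]; exact hb))
    exact hpow n b hn
  have hint : ψ.IsIntegral := by
    have h2 : (π.app U).hom = ψ.comp (AdjoinRoot.of p) := RingHom.ext fun a => (hψof a).symm
    have h := π.isIntegral_app U hU
    rw [h2] at h
    exact RingHom.IsIntegral.tower_top _ _ h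
  have hbij : Function.Bijective ψ :=
    bijective_of_localization ψ ψ' ρ σ hcomm (AdjoinRoot.of p g)
      (hchart ⟨X.basicOpen g, hU.basicOpen g⟩ hgle e' hGen' (res c) hc')
      hρ hsurj (fun b hb => hbad b (by rwa [hψof] at hb)) hσ hint fun P hP => by
        haveI := (isRegularRing_iff.1 (inferInstance : IsRegularRing (AdjoinRoot p))) P
        exact ⟨CommAlgDim.isDomain_of_isRegularLocalRing _, NormalLib.isIntegrallyClosed_of_isRegularLocalRing _⟩
  refine ⟨U, hxU, hUW, ?_⟩
  haveI : IsAffine (U : Scheme) := hU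
  haveI : IsAffine ((π ⁻¹ᵁ U : Y.Opens) : Scheme) := hU.preimage π
  rw [HasRingHomProperty.iff_of_isAffine (P := @Etale), morphismRestrict_appTop]
  have hmain : ∀ V : X.Opens, V = U → (π.app V).hom.Etale := by
    rintro V rfl
    rw [show (π.app V).hom = (RingEquiv.ofBijective ψ hbij).toRingHom.comp (AdjoinRoot.of p) from
      RingHom.ext fun a => (hψof a).symm]
    exact RingHom.Etale.respectsIso.1 _ _ (RingHom.etale_algebraMap.mpr inferInstance)
  rw [CommRingCat.hom_comp]
  exact RingHom.Etale.respectsIso.1 (π.app (U.ι ''ᵁ ⊤)).hom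
    (Y.presheaf.mapIso (eqToIso (image_morphismRestrict_preimage π U ⊤)).op).commRingCatIsoToRingEquiv
    (hmain _ (by simp))

end CycEtaleLib
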